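/- Kähler differentials of the node `k[x,y]/(xy)`. -/
import Mathlib

set_option autoImplicit false
set_option linter.style.haveILetI false
universe u
open MvPolynomial

namespace Groth.Agent.NodeDR

variable (k : Type u) [Field k]

/-- the node -/
abbrev R : Type u := MvPolynomial (Fin 2) k ⧸ Ideal.span {(X 0 * X 1 : MvPolynomial (Fin 2) k)}

/-- the branches -/
noncomputable def pb (i : Fin 2) : MvPolynomial (Fin 2) k →ₐ[k] Polynomial k :=
  aeval (fun j => if j = i then Polynomial.X else 0)

theorem pb_xy (i : Fin 2) : ∀ p ∈ Ideal.span {(X 0 * X 1 : MvPolynomial (Fin 2) k)}, pb k i p = 0 := by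
  intro p hp
  obtain ⟨q, rfl⟩ := Ideal.mem_span_singleton'.1 hp
  fin_cases i <;> simp [pb]

/-- a branch of the node -/
noncomputable def br (i : Fin 2) : R k →ₐ[k] Polynomial k :=
  Ideal.Quotient.liftₐ _ (pb k i) (pb_xy k i)

variable {k}

theorem dvd_of_pb_eq_zero (i j : Fin 2) (hij : i ≠ j) (p : MvPolynomial (Fin 2) k) (h : pb k i p = 0) :
    (X j : MvPolynomial (Fin 2) k) ∣ p := by
  suffices key : ∀ q, (X j : MvPolynomial (Fin 2) k) ∣ q - Polynomial.aeval (X i : MvPolynomial (Fin 2) k) (pb k i q) by
    have := key p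
    rwa [h, map_zero, sub_zero] at this
  intro q
  induction q using MvPolynomial.induction_on with
  | C c => simp [pb]
  | add a b ha hb => rw [map_add, map_add, add_sub_add_comm]; exact dvd_add ha hb
  | mul_X a l ha =>
    rcases eq_or_ne l i with rfl | hl
    · have : pb k l (X l) = Polynomial.X := by simp [pb]
      rw [map_mul, map_mul, this, Polynomial.aeval_X, ← sub_mul]
      exact Dvd.dvd.mul_right ha _
    · obtain rfl : l = j := by omega
      have : pb k i (X l) = 0 := by simp [pb, hl]
      rw [map_mul, this, mul_zero, map_zero, sub_zero]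
      exact dvd_mul_left _ _

theorem br_jointly_injective (P : R k) (h : ∀ i, br k i P = 0) : P = 0 := by
  obtain ⟨p, rfl⟩ := Ideal.Quotient.mk_surjective P
  have h0 : pb k 0 p = 0 := h 0
  have h1 : pb k 1 p = 0 := h 1
  obtain ⟨q, rfl⟩ := dvd_of_pb_eq_zero 0 1 (by decide) p h0
  have hq : pb k 1 q = 0 := by
    rw [map_mul] at h1
    exact (mul_eq_zero.1 h1).resolve_left (by simp [pb])
  obtain ⟨r, rfl⟩ := dvd_of_pb_eq_zero 1 0 (by decide) q hq
  exact Ideal.Quotient.eq_zero_iff_mem.2 (Ideal.mem_span_singleton'.2 ⟨r, by ring⟩)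

theorem derivative_br (i : Fin 2) (P : R k) (h : KaehlerDifferential.D k (R k) P = 0) :
    Polynomial.derivative (br k i P) = 0 := by
  letI := (br k i).toRingHom.toAlgebra
  haveI : IsScalarTower k (R k) (Polynomial k) :=
    IsScalarTower.of_algebraMap_eq fun c => ((br k i).commutes c).symm
  have h1 := KaehlerDifferential.map_D k k (R k) (Polynomial k) P
  rw [h, map_zero] at h1
  have h2 := congrArg (KaehlerDifferential.polynomialEquiv k) h1
  rw [map_zero, KaehlerDifferential.polynomialEquiv_D] at h2
  exact h2.symm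

theorem const_of_derivative [CharZero k] (P : R k) (hd : ∀ i, Polynomial.derivative (br k i P) = 0) :
    P ∈ Set.range (algebraMap k (R k)) := by
  have hP0 : ∀ i, br k i P = Polynomial.C ((br k 0 P).coeff 0) := by
    obtain ⟨p, rfl⟩ := Ideal.Quotient.mk_surjective P
    intro i
    have this : ∀ j, (Polynomial.aeval (0 : k)).comp (pb k j) = MvPolynomial.aeval (fun _ => (0 : k)) := fun j =>
      MvPolynomial.algHom_ext fun l => by
        by_cases hl : l = j <;> simp [pb, hl]
    have key : ∀ j, (pb k j p).coeff 0 = MvPolynomial.aeval (fun _ => (0 : k)) p := fun j => by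
      rw [← this j, AlgHom.comp_apply, Polynomial.coe_aeval_eq_eval, Polynomial.coeff_zero_eq_eval_zero]
    exact (Polynomial.eq_C_of_derivative_eq_zero (hd i)).trans
      (congrArg Polynomial.C ((key i).trans (key 0).symm))
  refine ⟨(br k 0 P).coeff 0, (sub_eq_zero.1 (br_jointly_injective _ fun i => ?_)).symm⟩
  rw [map_sub, AlgHom.commutes, Polynomial.algebraMap_eq, hP0 i, sub_self]

theorem ker_D [CharZero k] (P : R k) :
    KaehlerDifferential.D k (R k) P = 0 ↔ P ∈ Set.range (algebraMap k (R k)) :=
  ⟨fun h => const_of_derivative P fun i => derivative_br i P h,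
    by rintro ⟨c, rfl⟩; exact Derivation.map_algebraMap _ c⟩

variable (k) in
/-- the first order deformation detecting `x dy` -/
noncomputable def test : R k →ₐ[k] TrivSqZeroExt (DualNumber k) (DualNumber k) :=
  Ideal.Quotient.liftₐ _ (aeval fun j : Fin 2 =>
      TrivSqZeroExt.inl (DualNumber.eps : DualNumber k) +
        TrivSqZeroExt.inr (if j = 0 then -1 else 1 : DualNumber k)) fun p hp => by
    obtain ⟨q, rfl⟩ := Ideal.mem_span_singleton'.1 hp
    rw [map_mul, map_mul, aeval_X, aeval_X]
    refine mul_eq_zero_of_right _ (TrivSqZeroExt.ext ?_ ?_)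
    · simp [DualNumber.eps_mul_eps]
    · simp

theorem x_dy_ne_zero :
    (Ideal.Quotient.mk _ (X 0) : R k) • KaehlerDifferential.D k (R k) (Ideal.Quotient.mk _ (X 1)) ≠ 0 := by
  let f : R k →ₐ[k] DualNumber k := (TrivSqZeroExt.fstHom k (DualNumber k) (DualNumber k)).comp (test k)
  letI : Algebra (R k) (DualNumber k) := f.toRingHom.toAlgebra
  haveI : IsScalarTower k (R k) (DualNumber k) :=
    IsScalarTower.of_algebraMap_eq fun c => (f.commutes c).symm
  let d : Derivation k (R k) (DualNumber k) :=
    Derivation.mk'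
      ({ toFun := fun a => (test k a).snd
         map_add' := fun a b => by rw [map_add]; rfl
         map_smul' := fun c a => by rw [map_smul]; rfl } : R k →ₗ[k] DualNumber k)
      fun a b => by
        show (test k (a * b)).snd = (test k a).fst * (test k b).snd + (test k b).fst * (test k a).snd
        rw [map_mul, TrivSqZeroExt.snd_mul, smul_eq_mul, MulOpposite.smul_eq_mul_unop, MulOpposite.unop_op,
          mul_comm (test k a).snd]
  intro h
  have h1 := congrArg d.liftKaehlerDifferential h
  rw [map_smul, Derivation.liftKaehlerDifferential_comp_D, map_zero] at h1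
  have h2 : (test k (Ideal.Quotient.mk _ (X 0))).fst * (test k (Ideal.Quotient.mk _ (X 1))).snd = 0 := h1
  have e : ∀ j : Fin 2, test k (Ideal.Quotient.mk _ (X j)) = TrivSqZeroExt.inl (DualNumber.eps : DualNumber k) +
        TrivSqZeroExt.inr (if j = 0 then -1 else 1 : DualNumber k) := fun j => aeval_X _ j
  rw [e, e] at h2
  simp at h2
  exact one_ne_zero ((DualNumber.snd_eps (R := k)).symm.trans (congrArg TrivSqZeroExt.snd h2))

theorem not_surjective [CharZero k] : ¬ Function.Surjective (KaehlerDifferential.D k (R k)) := by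
  intro hs
  obtain ⟨P, hP⟩ := hs ((Ideal.Quotient.mk _ (X 0) : R k) •
    KaehlerDifferential.D k (R k) (Ideal.Quotient.mk _ (X 1)))
  have hd : ∀ i, Polynomial.derivative (br k i P) = 0 := by
    intro i
    letI := (br k i).toRingHom.toAlgebra
    haveI : IsScalarTower k (R k) (Polynomial k) :=
      IsScalarTower.of_algebraMap_eq fun c => ((br k i).commutes c).symm
    have h1 := congrArg (fun w => KaehlerDifferential.polynomialEquiv k
      (KaehlerDifferential.map k k (R k) (Polynomial k) w)) hP
    simp only [map_smul, KaehlerDifferential.map_D] at h1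
    rw [← IsScalarTower.algebraMap_smul (Polynomial k) (Ideal.Quotient.mk _ (X 0) : R k)
      (KaehlerDifferential.D k (Polynomial k) _), map_smul, KaehlerDifferential.polynomialEquiv_D,
      KaehlerDifferential.polynomialEquiv_D, smul_eq_mul] at h1
    refine h1.trans ?_
    show pb k i (X 0) * Polynomial.derivative (pb k i (X 1)) = 0
    fin_cases i <;> simp [pb]
  have hc : P ∈ Set.range (algebraMap k (R k)) := const_of_derivative P hd
  rw [(ker_D P).2 hc] at hP
  exact x_dy_ne_zero hP.symm

end Groth.Agent.NodeDR
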